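import Cfsg.Agent.H546.Fx.PslMain
import Cfsg.Agent.H956.EigBasis

/-!
# `NoEv` for `PSL(4, 3)` (task 2042, for S3002)
-/

set_option autoImplicit false
set_option maxRecDepth 10000

namespace Cfsg.Agent.H546.Fx.Psl

open Matrix Cfsg.Agent.H254.Ev Cfsg.Agent.LargeExtra.W2.LFour.PslFacts

abbrev V4 := Fin 4 → ZMod 3

theorem sq_add (a b : ZMod 3) (h : a * a + b * b = 0) : a = 0 ∧ b = 0 := by
  revert a b; decide

/-- a vector off the span of two -/
theorem exists_off (v w : V4) : ∃ x : V4, ∀ a b : ZMod 3, x ≠ a • v + b • w := by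
  by_contra hcon
  push Not at hcon
  have hs : Function.Surjective (fun p : ZMod 3 × ZMod 3 => p.1 • v + p.2 • w) := by
    intro x
    obtain ⟨a, b, h⟩ := hcon x
    exact ⟨(a, b), h.symm⟩
  have h1 := Fintype.card_le_of_surjective _ hs
  have h2 : Fintype.card V4 = 81 := by simp [V4, ZMod.card]
  have h3 : Fintype.card (ZMod 3 × ZMod 3) = 9 := by simp [ZMod.card]
  omega

/-- the matrix with given columns -/
def cols (v w x y : V4) : M := Matrix.of fun i j => (![v, w, x, y] : Fin 4 → V4) j i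

theorem cols_mulVec (v w x y u : V4) : cols v w x y *ᵥ u = u 0 • v + u 1 • w + u 2 • x + u 3 • y := by
  ext i
  simp only [cols, Matrix.mulVec, dotProduct, Fin.sum_univ_four, Matrix.of_apply, Pi.add_apply, Pi.smul_apply, smul_eq_mul]
  simp only [Matrix.cons_val]
  ring

theorem exists_inv_cols {v w x y : V4} (h : ∀ a b c d : ZMod 3, a • v + b • w + c • x + d • y = 0 → a = 0 ∧ b = 0 ∧ c = 0 ∧ d = 0) :
    ∃ P' : M, cols v w x y * P' = 1 := by
  have hinj : Function.Injective (cols v w x y).mulVec := by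
    intro u u' hu
    have h1 : cols v w x y *ᵥ (u - u') = 0 := by
      rw [Matrix.mulVec_sub]
      exact sub_eq_zero.2 hu
    rw [cols_mulVec] at h1
    obtain ⟨h2, h3, h4, h5⟩ := h _ _ _ _ h1
    have : u - u' = 0 := by
      ext i
      fin_cases i
      · exact h2
      · exact h3
      · exact h4
      · exact h5
    exact sub_eq_zero.1 this
  have hu := Matrix.mulVec_injective_iff_isUnit.1 hinj
  obtain ⟨u, hu⟩ := hu
  exact ⟨(u⁻¹ : Mˣ), by rw [← hu, Units.mul_inv]⟩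

theorem j0_0 (u : V4) : (j0 *ᵥ u) 0 = -u 1 := by
  have h : ∀ r : ZMod 3, 2 * r = -r := by decide
  rw [← h]; simp [j0, Matrix.mulVec, dotProduct, Fin.sum_univ_four]
theorem j0_1 (u : V4) : (j0 *ᵥ u) 1 = u 0 := by
  simp [j0, Matrix.mulVec, dotProduct, Fin.sum_univ_four]
theorem j0_2 (u : V4) : (j0 *ᵥ u) 2 = -u 3 := by
  have h : ∀ r : ZMod 3, 2 * r = -r := by decide
  rw [← h]; simp [j0, Matrix.mulVec, dotProduct, Fin.sum_univ_four]
theorem j0_3 (u : V4) : (j0 *ᵥ u) 3 = u 2 := by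
  simp [j0, Matrix.mulVec, dotProduct, Fin.sum_univ_four]

/-- (a) a square root of `-1` is conjugate to the standard one -/
theorem conj_j0 {m : M} (h : m * m = -1) : ∃ P P' : M, P * P' = 1 ∧ m = P * j0 * P' := by
  have hmm : ∀ u : V4, m *ᵥ (m *ᵥ u) = -u := by
    intro u
    rw [Matrix.mulVec_mulVec, h, Matrix.neg_mulVec, Matrix.one_mulVec]
  obtain ⟨v, hv⟩ := exists_off 0 0
  have hv0 : v ≠ 0 := by
    have := hv 0 0
    simpa using this
  obtain ⟨x, hx⟩ := exists_off v (m *ᵥ v)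
  have h2 : ∀ a b : ZMod 3, a • v + b • (m *ᵥ v) = 0 → a = 0 ∧ b = 0 := by
    intro a b hab
    have h3 : a • (m *ᵥ v) - b • v = 0 := by
      have := congrArg (fun u => m *ᵥ u) hab
      simp only [Matrix.mulVec_add, Matrix.mulVec_smul, hmm, Matrix.mulVec_zero] at this
      rw [smul_neg] at this
      rw [← this]; abel
    have h4 : (a * a + b * b) • v = 0 := by
      calc (a * a + b * b) • v = a • (a • v + b • (m *ᵥ v)) - b • (a • (m *ᵥ v) - b • v) := by
            simp only [smul_add, smul_sub, smul_smul, add_smul, mul_comm b a]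
            abel
        _ = 0 := by rw [hab, h3]; simp
    rcases smul_eq_zero.1 h4 with h5 | h5
    · exact sq_add a b h5
    · exact absurd h5 hv0
  obtain ⟨P', hP'⟩ := exists_inv_cols (v := v) (w := m *ᵥ v) (x := x) (y := m *ᵥ x) (by
    intro a b c d habcd
    have h3 : a • (m *ᵥ v) - b • v + c • (m *ᵥ x) - d • x = 0 := by
      have := congrArg (fun u => m *ᵥ u) habcd
      simp only [Matrix.mulVec_add, Matrix.mulVec_smul, hmm, Matrix.mulVec_zero] at this
      simp only [smul_neg] at this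
      rw [← this]; abel
    have h4 : (c * c + d * d) • x = (-(c * a + d * b)) • v + (d * a - c * b) • (m *ᵥ v) := by
      have h5 : c • (a • v + b • (m *ᵥ v) + c • x + d • (m *ᵥ x)) - d • (a • (m *ᵥ v) - b • v + c • (m *ᵥ x) - d • x) = 0 := by
        rw [habcd, h3]; simp
      have h6 : c • (a • v + b • (m *ᵥ v) + c • x + d • (m *ᵥ x)) - d • (a • (m *ᵥ v) - b • v + c • (m *ᵥ x) - d • x)
          = (c * c + d * d) • x - ((-(c * a + d * b)) • v + (d * a - c * b) • (m *ᵥ v)) := by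
        simp only [smul_add, smul_sub, smul_smul, add_smul, sub_smul, neg_smul, mul_comm d c]
        abel
      rw [h6] at h5
      exact sub_eq_zero.1 h5
    have h5 : c * c + d * d = 0 := by
      by_contra hne
      have key : ∀ r : ZMod 3, r ≠ 0 → r * r = 1 := by decide
      have h6 := key _ hne
      refine hx ((c * c + d * d) * (-(c * a + d * b))) ((c * c + d * d) * (d * a - c * b)) ?_
      rw [mul_smul, mul_smul, ← smul_add, ← h4, smul_smul, h6, one_smul]
    obtain ⟨rfl, rfl⟩ := sq_add c d h5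
    rw [zero_smul, zero_smul, add_zero, add_zero] at habcd
    obtain ⟨h6, h7⟩ := h2 a b habcd
    exact ⟨h6, h7, rfl, rfl⟩)
  refine ⟨_, P', hP', ?_⟩
  have h1 : m * cols v (m *ᵥ v) x (m *ᵥ x) = cols v (m *ᵥ v) x (m *ᵥ x) * j0 := by
    apply Matrix.ext_of_mulVec_single
    intro i
    obtain ⟨u, hu⟩ : ∃ u : V4, u = Pi.single i 1 := ⟨_, rfl⟩
    rw [← hu, ← Matrix.mulVec_mulVec, ← Matrix.mulVec_mulVec, cols_mulVec, cols_mulVec]
    simp only [Matrix.mulVec_add, Matrix.mulVec_smul, hmm, j0_0, j0_1, j0_2, j0_3]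
    simp only [neg_smul, smul_neg]
    abel
  rw [← h1, mul_assoc, hP', mul_one]

/-- (b) an involution of determinant one -/
theorem conj_diag {m : M} (h : m * m = 1) : ∃ (P P' : M) (d : Fin 4 → ZMod 3), P * P' = 1 ∧ m = P * diagonal d * P' ∧
    ∀ i, d i = 1 ∨ d i = -1 := by
  have htop : ⨆ a, Module.End.eigenspace (Matrix.toLin' m) a = ⊤ := by
    refine Cfsg.Agent.H956.EigBasis.iSup_eigenspace_of_prod _ {1, -1} ?_
    rw [Finset.prod_insert (by decide), Finset.prod_singleton]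
    have h1 : Matrix.toLin' m * Matrix.toLin' m = 1 := by
      have h2 : Matrix.toLin' m * Matrix.toLin' m = Matrix.toLin' (m * m) := (Matrix.toLin'_mul m m).symm
      rw [h2, h, Matrix.toLin'_one]
      rfl
    simp only [map_mul, map_sub, map_neg, map_one, Polynomial.aeval_X]
    rw [sub_neg_eq_add, sub_mul, mul_add, one_mul, mul_one, h1]
    abel
  obtain ⟨S, d, hd⟩ := Cfsg.Agent.H956.EigBasis.exists_conj_diagonal m htop
  have hS : (S : M) * ((S⁻¹ : GL (Fin 4) (ZMod 3)) : M) = 1 := by rw [← Units.val_mul, mul_inv_cancel, Units.val_one]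
  refine ⟨_, _, d, hS, hd, ?_⟩
  have hS' := mul_eq_one_comm.1 hS
  have h2 : (S : M) * (diagonal d * diagonal d) * ((S⁻¹ : GL (Fin 4) (ZMod 3)) : M) = (S : M) * (1 : M) * ((S⁻¹ : GL (Fin 4) (ZMod 3)) : M) := by
    rw [cj_mul hS', ← hd, h, mul_one, hS]
  have h3 := cj_inj hS' h2
  rw [Matrix.diagonal_mul_diagonal] at h3
  intro i
  have h4 := congrFun (congrFun h3 i) i
  rw [Matrix.diagonal_apply_eq, Matrix.one_apply_eq] at h4
  have key : ∀ r : ZMod 3, r * r = 1 → r = 1 ∨ r = -1 := by decide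
  exact key _ h4

/-- the six arrangements -/
def dgP : Fin 6 → M := ![
  1,
  !![1, 0, 0, 0; 0, 0, 1, 0; 0, 1, 0, 0; 0, 0, 0, 1],
  !![1, 0, 0, 0; 0, 0, 0, 1; 0, 0, 1, 0; 0, 1, 0, 0],
  !![0, 0, 1, 0; 0, 1, 0, 0; 1, 0, 0, 0; 0, 0, 0, 1],
  !![0, 0, 0, 1; 0, 1, 0, 0; 0, 0, 1, 0; 1, 0, 0, 0],
  !![0, 0, 1, 0; 0, 0, 0, 1; 1, 0, 0, 0; 0, 1, 0, 0]]

theorem dgP_sq : ∀ l, dgP l * dgP l = 1 := by decide +kernel

theorem diag_cases : ∀ d : Fin 4 → ZMod 3, (∀ i, d i = 1 ∨ d i = -1) → d 0 * d 1 * d 2 * d 3 = 1 →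
    (diagonal d : M) = 1 ∨ (diagonal d : M) = -1 ∨ ∃ l, (diagonal d : M) = dgP l * d0 * dgP l := by
  decide +kernel

theorem conj_d0 {m : M} (h : m * m = 1) (hd : m.det = 1) (h1 : m ≠ 1) (h2 : m ≠ -1) :
    ∃ P P' : M, P * P' = 1 ∧ m = P * d0 * P' := by
  obtain ⟨P, P', d, hP, hm, hd'⟩ := conj_diag h
  have hP' := mul_eq_one_comm.1 hP
  have h3 : d 0 * d 1 * d 2 * d 3 = 1 := by
    have h4 : P'.det * P.det = 1 := by rw [← det_mul, hP', det_one]
    have h5 : (diagonal d : M).det = 1 := by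
      have h6 : m.det = P.det * (diagonal d : M).det * P'.det := by rw [hm, det_mul, det_mul]
      calc (diagonal d : M).det = (P'.det * P.det) * (diagonal d : M).det := by rw [h4, one_mul]
        _ = m.det := by rw [h6]; ring
        _ = 1 := hd
    rw [Matrix.det_diagonal, Fin.prod_univ_four] at h5
    exact h5
  rcases diag_cases d hd' h3 with h4 | h4 | ⟨l, h4⟩
  · exact absurd (by rw [hm, h4, mul_one, hP]) h1
  · exact absurd (by rw [hm, h4, mul_neg, mul_one, neg_mul, hP]) h2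
  · refine ⟨P * dgP l, dgP l * P', ?_, ?_⟩
    · calc P * dgP l * (dgP l * P') = P * (dgP l * dgP l) * P' := by simp only [mul_assoc]
        _ = 1 := by rw [dgP_sq, mul_one, hP]
    · rw [hm, h4]; simp only [mul_assoc]

theorem full_of_B {K : Set M} (hK : PK K) {m : M} (hm : m ∈ K) (h : m * m = -1) : Full K := by
  obtain ⟨P, P', hP, hmP⟩ := conj_j0 h
  refine Full.of_conj hP (full_of_j0 (hK.conj hP) ?_)
  rw [mem_cjM, ← hmP]; exact hm

theorem full_of_A {K : Set M} (hK : PK K) {m : M} (hm : m ∈ K) (h : m * m = 1) (hd : m.det = 1) (h1 : m ≠ 1)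
    (h2 : m ≠ -1) : Full K := by
  by_cases hB : ∃ b ∈ K, b * b = -1
  · obtain ⟨b, hb, hbb⟩ := hB
    exact full_of_B hK hb hbb
  · push Not at hB
    obtain ⟨P, P', hP, hmP⟩ := conj_d0 h hd h1 h2
    refine Full.of_conj hP (full_of_d0 (hK.conj hP) (nb_cj hB hP) ?_)
    rw [mem_cjM, ← hmP]; exact hm

/-- a proper subgroup of fixity at most 4 has odd order -/
theorem top_of_invol {H : Subgroup PSL4} (hH : FixLE 4 H) {s : PSL4} (hs : s ∈ H) (h1 : s ≠ 1) (h2 : s * s = 1) : H = ⊤ := by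
  obtain ⟨g, rfl⟩ := pr_surj s
  rw [← map_mul] at h2
  have hK := PK_of hH
  have hg : toM g ∈ Km H := ⟨g, rfl, hs⟩
  apply top_of_full
  rcases (pr_eq_one _).1 h2 with h3 | h3
  · exact full_of_A hK hg (by rw [← toM_mul]; exact h3) (det_toM g) (fun h => h1 ((pr_eq_one _).2 (Or.inl h)))
      (fun h => h1 ((pr_eq_one _).2 (Or.inr h)))
  · exact full_of_B hK hg (by rw [← toM_mul]; exact h3)

theorem noEv_psl4_zmod : NoEv PSL4 := by
  rintro H hH ⟨t, ht2, hfix⟩
  have htop := ne_top_of_exact (k := 4) (by norm_num) hfix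
  obtain ⟨a, haH, -⟩ := exists_conj_exact (k := 4) (by norm_num) hfix
  have htt : t * t = 1 := by rw [← sq, ← ht2]; exact pow_orderOf_eq_one t
  have ht1 : t ≠ 1 := by rintro rfl; rw [orderOf_one] at ht2; omega
  refine htop (top_of_invol hH haH ?_ ?_)
  · intro h1
    apply ht1
    calc t = a * (a⁻¹ * t * a) * a⁻¹ := by group
      _ = 1 := by rw [h1]; group
  · calc a⁻¹ * t * a * (a⁻¹ * t * a) = a⁻¹ * (t * t) * a := by group
      _ = 1 := by rw [htt]; group

theorem noEv_psl4_three (F : Type) [Field F] [Fintype F] (h : Fintype.card F = 3) :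
    NoEv (Matrix.ProjectiveSpecialLinearGroup (Fin 4) F) :=
  NoEv.congr (psl_congr F h).some noEv_psl4_zmod

end Cfsg.Agent.H546.Fx.Psl
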