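import Cfsg.Agent.H546.Fx.PslBase

/-!
# Fixity 4 for `PSL(4, 3)`: involutions of the second class (task 2042, for S3002)
-/

set_option autoImplicit false
set_option maxRecDepth 10000

namespace Cfsg.Agent.H546.Fx.Psl

open Matrix

/-- one step of a path: `z`, `w` of order 5 commuting with `k`, `k' = z * w` -/
def chk : M → List (M × M × M × M × M) → M → Bool
  | k, [], t => decide (k = t) || decide (k = -t)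
  | k, (z, z2, w, w2, k') :: l, t => decide (z * k = k * z) && decide (z * z = z2) && decide (z2 * z2 * z = 1) &&
      decide (w * k = k * w) && decide (w * w = w2) && decide (w2 * w2 * w = 1) && decide (z * w = k') &&
      decide (k' ≠ 1) && decide (k' ≠ -1) && chk k' l t

theorem of_chk {K : Set M} (hK : PK K) : ∀ (l : List (M × M × M × M × M)) (k t : M), k ∈ K → k ≠ 1 → k ≠ -1 →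
    chk k l t = true → t ∈ K
  | [], k, t, hk, _, _, h => by
    simp only [chk, Bool.or_eq_true, decide_eq_true_eq] at h
    rcases h with rfl | rfl
    · exact hk
    · have := hK.mul hK.neg hk
      simpa using this
  | (z, z2, w, w2, k') :: l, k, t, hk, h1, h2, h => by
    simp only [chk, Bool.and_eq_true, decide_eq_true_eq] at h
    obtain ⟨⟨⟨⟨⟨⟨⟨⟨⟨a1, a2⟩, a3⟩, a4⟩, a5⟩, a6⟩, a7⟩, a8⟩, a9⟩, a10⟩ := h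
    have p5 : ∀ z z2 : M, z * z = z2 → z2 * z2 * z = 1 → z ^ 5 = 1 := by
      intro z z2 e1 e2
      rw [← e2, ← e1]
      noncomm_ring
    have hz : z ∈ K := hK.five hk h1 h2 a1 (p5 z z2 a2 a3)
    have hw : w ∈ K := hK.five hk h1 h2 a4 (p5 w w2 a5 a6)
    exact of_chk hK l k' t (a7 ▸ hK.mul hz hw) a8 a9 a10

/-- the standard matrix with square `-1` -/
def j0 : M := !![0, 2, 0, 0; 1, 0, 0, 0; 0, 0, 0, 2; 0, 0, 1, 0]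

def cert01 : List (M × M × M × M × M) := [
  (!![2, 1, 2, 2; 2, 2, 1, 2; 0, 2, 2, 1; 1, 0, 2, 2],
    !![2, 2, 1, 0; 1, 2, 0, 1; 2, 2, 2, 2; 1, 2, 1, 2],
    !![1, 1, 1, 2; 2, 1, 1, 1; 0, 1, 0, 1; 2, 0, 2, 0],
    !![1, 0, 0, 1; 0, 1, 2, 0; 1, 1, 0, 1; 2, 1, 2, 0],
    !![2, 2, 1, 1; 1, 2, 2, 1; 0, 1, 1, 1; 2, 0, 2, 1]),
  (!![2, 2, 0, 1; 2, 2, 0, 0; 0, 2, 1, 0; 0, 1, 1, 0],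
    !![2, 0, 1, 2; 2, 2, 0, 2; 1, 0, 1, 0; 2, 1, 1, 0],
    !![1, 0, 2, 1; 0, 1, 1, 0; 1, 2, 0, 2; 1, 0, 2, 0],
    !![1, 1, 1, 2; 1, 0, 1, 2; 0, 2, 2, 1; 0, 1, 2, 2],
    !![0, 2, 2, 2; 2, 2, 0, 2; 1, 1, 2, 2; 1, 0, 1, 2]),
  (!![1, 0, 1, 1; 1, 0, 0, 0; 2, 2, 1, 0; 1, 1, 0, 0],
    !![1, 0, 2, 1; 1, 0, 1, 1; 0, 2, 0, 2; 2, 0, 1, 1],
    !![2, 1, 0, 0; 1, 2, 2, 0; 0, 0, 2, 1; 0, 1, 1, 2],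
    !![2, 1, 2, 0; 1, 2, 2, 2; 0, 1, 2, 1; 1, 1, 0, 2],
    !![2, 2, 0, 0; 2, 1, 0, 0; 0, 0, 0, 1; 0, 0, 2, 0])]

theorem ok01 : chk j0 cert01 (!![1, 1, 0, 0; 0, 1, 0, 0; 0, 0, 1, 0; 0, 0, 0, 1] * j0 * !![1, 2, 0, 0; 0, 1, 0, 0; 0, 0, 1, 0; 0, 0, 0, 1]) = true := by decide +kernel

def cert10 : List (M × M × M × M × M) := [
  (!![2, 1, 2, 2; 2, 2, 1, 2; 0, 2, 2, 1; 1, 0, 2, 2],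
    !![2, 2, 1, 0; 1, 2, 0, 1; 2, 2, 2, 2; 1, 2, 1, 2],
    !![1, 1, 1, 2; 2, 1, 1, 1; 0, 1, 0, 1; 2, 0, 2, 0],
    !![1, 0, 0, 1; 0, 1, 2, 0; 1, 1, 0, 1; 2, 1, 2, 0],
    !![2, 2, 1, 1; 1, 2, 2, 1; 0, 1, 1, 1; 2, 0, 2, 1]),
  (!![2, 1, 2, 1; 1, 0, 2, 0; 0, 0, 0, 1; 1, 0, 0, 0],
    !![0, 2, 0, 1; 2, 1, 2, 0; 1, 0, 0, 0; 2, 1, 2, 1],
    !![1, 1, 1, 2; 1, 0, 1, 2; 0, 2, 2, 1; 0, 1, 2, 2],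
    !![2, 2, 2, 0; 1, 2, 1, 1; 2, 2, 2, 2; 1, 0, 0, 2],
    !![0, 1, 0, 1; 1, 2, 2, 1; 0, 1, 2, 2; 1, 1, 1, 2]),
  (!![0, 0, 1, 2; 1, 1, 2, 0; 2, 2, 1, 2; 1, 2, 2, 0],
    !![1, 0, 2, 2; 2, 2, 2, 0; 0, 2, 2, 0; 0, 0, 1, 0],
    !![0, 1, 2, 1; 1, 1, 1, 0; 2, 0, 0, 1; 1, 1, 0, 1],
    !![0, 2, 1, 0; 0, 2, 0, 2; 1, 0, 1, 0; 2, 0, 0, 2],
    !![1, 2, 0, 0; 2, 2, 0, 0; 0, 0, 0, 2; 0, 0, 1, 0])]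

theorem ok10 : chk j0 cert10 (!![1, 0, 0, 0; 1, 1, 0, 0; 0, 0, 1, 0; 0, 0, 0, 1] * j0 * !![1, 0, 0, 0; 2, 1, 0, 0; 0, 0, 1, 0; 0, 0, 0, 1]) = true := by decide +kernel

def cert12 : List (M × M × M × M × M) := [
  (!![2, 1, 0, 2; 2, 2, 1, 0; 1, 0, 2, 0; 0, 1, 0, 2],
    !![0, 0, 1, 2; 0, 0, 1, 1; 1, 1, 1, 2; 2, 1, 1, 1],
    !![0, 1, 1, 2; 2, 0, 1, 1; 0, 1, 1, 1; 2, 0, 2, 1],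
    !![0, 1, 0, 1; 2, 0, 2, 0; 1, 1, 1, 0; 2, 1, 0, 1],
    !![0, 2, 1, 1; 1, 0, 2, 1; 0, 0, 0, 1; 0, 0, 2, 0]),
  (!![2, 2, 1, 0; 2, 1, 0, 1; 1, 0, 2, 0; 0, 2, 1, 0],
    !![0, 0, 1, 2; 0, 1, 0, 1; 1, 2, 2, 0; 2, 2, 2, 2],
    !![0, 1, 0, 0; 0, 1, 2, 1; 0, 1, 0, 1; 1, 0, 1, 1],
    !![0, 1, 2, 1; 1, 0, 0, 1; 1, 1, 0, 2; 1, 2, 1, 2],
    !![0, 2, 1, 0; 1, 0, 0, 2; 0, 0, 0, 2; 0, 0, 1, 0])]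

theorem ok12 : chk j0 cert12 (!![1, 0, 0, 0; 0, 1, 1, 0; 0, 0, 1, 0; 0, 0, 0, 1] * j0 * !![1, 0, 0, 0; 0, 1, 2, 0; 0, 0, 1, 0; 0, 0, 0, 1]) = true := by decide +kernel

def cert21 : List (M × M × M × M × M) := [
  (!![2, 1, 0, 2; 2, 2, 1, 0; 1, 0, 2, 0; 0, 1, 0, 2],
    !![0, 0, 1, 2; 0, 0, 1, 1; 1, 1, 1, 2; 2, 1, 1, 1],
    !![0, 0, 1, 0; 0, 0, 0, 1; 2, 0, 1, 1; 0, 2, 2, 1],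
    !![2, 0, 1, 1; 0, 2, 2, 1; 2, 2, 2, 2; 1, 2, 1, 2],
    !![0, 1, 0, 0; 2, 0, 0, 0; 1, 0, 0, 2; 0, 1, 1, 0]),
  (!![1, 1, 1, 0; 0, 1, 0, 2; 2, 0, 0, 0; 1, 2, 1, 0],
    !![0, 2, 1, 2; 2, 2, 2, 2; 2, 2, 2, 0; 0, 0, 1, 1],
    !![1, 0, 0, 2; 0, 0, 2, 0; 2, 1, 1, 1; 1, 0, 2, 0],
    !![0, 0, 1, 2; 1, 2, 2, 2; 2, 1, 2, 2; 2, 2, 2, 1],
    !![0, 1, 0, 0; 2, 0, 0, 0; 2, 0, 0, 1; 0, 1, 2, 0])]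

theorem ok21 : chk j0 cert21 (!![1, 0, 0, 0; 0, 1, 0, 0; 0, 1, 1, 0; 0, 0, 0, 1] * j0 * !![1, 0, 0, 0; 0, 1, 0, 0; 0, 2, 1, 0; 0, 0, 0, 1]) = true := by decide +kernel

def cert23 : List (M × M × M × M × M) := [
  (!![2, 1, 2, 2; 2, 2, 1, 2; 0, 2, 2, 1; 1, 0, 2, 2],
    !![2, 2, 1, 0; 1, 2, 0, 1; 2, 2, 2, 2; 1, 2, 1, 2],
    !![1, 1, 1, 2; 2, 1, 1, 1; 0, 1, 0, 1; 2, 0, 2, 0],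
    !![1, 0, 0, 1; 0, 1, 2, 0; 1, 1, 0, 1; 2, 1, 2, 0],
    !![2, 2, 1, 1; 1, 2, 2, 1; 0, 1, 1, 1; 2, 0, 2, 1]),
  (!![0, 0, 1, 0; 2, 2, 0, 1; 2, 1, 2, 1; 0, 2, 0, 1],
    !![2, 1, 2, 1; 1, 0, 2, 0; 0, 0, 0, 1; 1, 0, 0, 0],
    !![0, 0, 1, 0; 2, 2, 1, 1; 2, 2, 0, 2; 0, 1, 0, 0],
    !![2, 2, 0, 2; 0, 1, 1, 1; 1, 0, 1, 2; 2, 2, 1, 1],
    !![2, 2, 0, 2; 1, 2, 1, 2; 0, 1, 0, 2; 1, 2, 2, 2]),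
  (!![2, 1, 1, 0; 2, 1, 0, 0; 2, 0, 1, 1; 0, 0, 1, 1],
    !![2, 0, 0, 1; 0, 0, 2, 0; 0, 2, 1, 2; 2, 0, 2, 2],
    !![0, 0, 0, 1; 1, 0, 0, 1; 2, 2, 0, 0; 1, 1, 1, 2],
    !![1, 1, 1, 2; 1, 1, 1, 0; 2, 0, 0, 1; 2, 1, 2, 0],
    !![0, 2, 0, 0; 1, 0, 0, 0; 0, 0, 1, 1; 0, 0, 1, 2])]

theorem ok23 : chk j0 cert23 (!![1, 0, 0, 0; 0, 1, 0, 0; 0, 0, 1, 1; 0, 0, 0, 1] * j0 * !![1, 0, 0, 0; 0, 1, 0, 0; 0, 0, 1, 2; 0, 0, 0, 1]) = true := by decide +kernel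

def cert32 : List (M × M × M × M × M) := [
  (!![2, 1, 2, 2; 2, 2, 1, 2; 0, 2, 2, 1; 1, 0, 2, 2],
    !![2, 2, 1, 0; 1, 2, 0, 1; 2, 2, 2, 2; 1, 2, 1, 2],
    !![1, 1, 1, 2; 2, 1, 1, 1; 0, 1, 0, 1; 2, 0, 2, 0],
    !![1, 0, 0, 1; 0, 1, 2, 0; 1, 1, 0, 1; 2, 1, 2, 0],
    !![2, 2, 1, 1; 1, 2, 2, 1; 0, 1, 1, 1; 2, 0, 2, 1]),
  (!![0, 0, 1, 0; 2, 2, 0, 1; 2, 1, 2, 1; 0, 2, 0, 1],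
    !![2, 1, 2, 1; 1, 0, 2, 0; 0, 0, 0, 1; 1, 0, 0, 0],
    !![0, 1, 2, 1; 0, 2, 1, 0; 2, 2, 1, 0; 1, 2, 2, 2],
    !![2, 2, 2, 2; 2, 0, 0, 0; 2, 2, 1, 2; 0, 1, 1, 2],
    !![2, 2, 1, 0; 1, 2, 2, 1; 2, 1, 0, 1; 1, 0, 1, 2]),
  (!![2, 1, 1, 1; 2, 1, 0, 0; 0, 0, 0, 2; 2, 0, 0, 2],
    !![2, 0, 2, 0; 0, 0, 2, 2; 1, 0, 0, 1; 2, 2, 2, 0],
    !![0, 0, 2, 0; 1, 0, 2, 0; 2, 2, 1, 2; 0, 0, 2, 1],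
    !![1, 1, 2, 1; 1, 1, 1, 1; 1, 2, 1, 1; 1, 1, 1, 2],
    !![0, 2, 0, 0; 1, 0, 0, 0; 0, 0, 1, 2; 0, 0, 2, 2])]

theorem ok32 : chk j0 cert32 (!![1, 0, 0, 0; 0, 1, 0, 0; 0, 0, 1, 0; 0, 0, 1, 1] * j0 * !![1, 0, 0, 0; 0, 1, 0, 0; 0, 0, 1, 0; 0, 0, 2, 1]) = true := by decide +kernel

end Cfsg.Agent.H546.Fx.Psl
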