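import Cfsg.Agent.H546.Fx.PslCertB

/-!
# Fixity 4 for `PSL(4, 3)` (task 2042, for S3002)
-/

set_option autoImplicit false
set_option maxRecDepth 10000

namespace Cfsg.Agent.H546.Fx.Psl

open Matrix Cfsg.Agent.H254.Ev Cfsg.Agent.LargeExtra.W2.LFour.PslFacts

/-- everything of determinant one -/
def Full (K : Set M) : Prop := ∀ m : M, m.det = 1 → m ∈ K

theorem Full.of_conj {K : Set M} {P P' : M} (h : P * P' = 1) (hf : Full (cjM P P' K)) : Full K := by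
  intro m hm
  have h' : P' * P = 1 := mul_eq_one_comm.1 h
  have h1 := hf (P' * m * P) (by
    have : P'.det * P.det = 1 := by rw [← det_mul, h', det_one]
    rw [det_mul, det_mul, hm, mul_one, this])
  rw [mem_cjM] at h1
  have : P * (P' * m * P) * P' = m := by
    calc P * (P' * m * P) * P' = (P * P') * m * (P * P') := by simp only [mul_assoc]
      _ = m := by rw [h, one_mul, mul_one]
  rwa [this] at h1

theorem top_of_full {H : Subgroup PSL4} (h : Full (Km H)) : H = ⊤ := by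
  rw [eq_top_iff]
  intro x _
  obtain ⟨g, rfl⟩ := pr_surj x
  obtain ⟨g', hg', hH⟩ := h (toM g) (det_toM g)
  rwa [toM_inj hg'] at hH

/-- the subgroup of elements whose matrices lie in `K` -/
def Ks {K : Set M} (hK : PK K) : Subgroup SL4 where
  carrier := {g | toM g ∈ K}
  one_mem' := hK.one
  mul_mem' := fun {a b} ha hb => by
    change toM (a * b) ∈ K
    rw [toM_mul]; exact hK.mul ha hb
  inv_mem' := fun {a} ha => hK.inv (a := toM a) ha (by rw [← toM_mul, mul_inv_cancel, toM_one])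

theorem mem_Ks {K : Set M} (hK : PK K) (g : SL4) : g ∈ Ks hK ↔ toM g ∈ K := Iff.rfl

theorem full_of_top {K : Set M} (hK : PK K) (h : Ks hK = ⊤) : Full K := by
  intro m hm
  have : mkSL m hm ∈ Ks hK := by rw [h]; trivial
  exact this

/-- a set containing all conjugates of a non-central element -/
theorem full_of_conj {K : Set M} (hK : PK K) {J : SL4} (hJ : pr J ≠ 1) (h : ∀ g : SL4, g * J * g⁻¹ ∈ Ks hK) : Full K := by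
  apply full_of_top
  have hle : Subgroup.normalClosure {J} ≤ Ks hK := by
    rw [Subgroup.normalClosure, Subgroup.closure_le]
    intro x hx
    obtain ⟨y, hy, hyx⟩ := Group.mem_conjugatesOfSet_iff.1 hx
    rw [Set.mem_singleton_iff] at hy
    subst hy
    obtain ⟨g, rfl⟩ := isConj_iff.1 hyx
    exact h g
  have hn : ((Subgroup.normalClosure {J}).map pr).Normal := Subgroup.Normal.map inferInstance pr (QuotientGroup.mk'_surjective _)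
  have hs := simple_psl
  rcases hs.eq_bot_or_eq_top_of_normal _ hn with h1 | h1
  · exfalso
    apply hJ
    have : pr J ∈ (Subgroup.normalClosure {J}).map pr := ⟨J, Subgroup.subset_normalClosure (Set.mem_singleton J), rfl⟩
    rw [h1, Subgroup.mem_bot] at this
    exact this
  · rw [eq_top_iff]
    intro g _
    have : pr g ∈ (Subgroup.normalClosure {J}).map pr := by rw [h1]; trivial
    obtain ⟨n, hn1, hn2⟩ := this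
    have h2 : pr (n⁻¹ * g) = 1 := by rw [map_mul, map_inv, hn2, inv_mul_cancel]
    have h3 : n⁻¹ * g ∈ Ks hK := by
      rw [mem_Ks]
      rcases (pr_eq_one _).1 h2 with h4 | h4
      · rw [h4]; exact hK.one
      · rw [h4]; exact hK.neg
    have h5 := (Ks hK).mul_mem (hle hn1) h3
    rwa [mul_inv_cancel_left] at h5

/-! ### The second class -/

/-- the propagation property -/
def Q (g : SL4) : Prop := ∀ K : Set M, PK K → j0 ∈ K → toM g * j0 * toM g⁻¹ ∈ K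

theorem Q.mul {g h : SL4} (hg : Q g) (hh : Q h) : Q (g * h) := by
  intro K hK hj
  have e : toM g * toM g⁻¹ = 1 := by rw [← toM_mul, mul_inv_cancel, toM_one]
  have h1 := hh (cjM (toM g) (toM g⁻¹) K) (hK.conj e) (hg K hK hj)
  rw [mem_cjM] at h1
  rw [_root_.mul_inv_rev, toM_mul, toM_mul]
  simpa only [mul_assoc] using h1

theorem Q.pow {g : SL4} (hg : Q g) (n : ℕ) : Q (g ^ n) := by
  induction n with
  | zero =>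
    intro K hK hj
    rw [pow_zero, inv_one, toM_one, one_mul, mul_one]; exact hj
  | succ n ih => rw [pow_succ]; exact ih.mul hg

/-- the subgroup of elements with the propagation property -/
def Qs : Subgroup SL4 where
  carrier := {g | Q g}
  one_mem' := by
    intro K hK hj
    rw [inv_one, toM_one, one_mul, mul_one]; exact hj
  mul_mem' := fun ha hb => ha.mul hb
  inv_mem' := fun {a} ha => by
    have h1 : a ^ (orderOf a - 1) = a⁻¹ := by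
      rw [eq_inv_iff_mul_eq_one, ← pow_succ, Nat.sub_add_cancel (orderOf_pos a), pow_orderOf_eq_one]
    change Q a⁻¹
    rw [← h1]; exact Q.pow ha _

theorem Q_of_chk (g : SL4) (m m' : M) (h1 : toM g = m) (h2 : toM g⁻¹ = m') (l : List (M × M × M × M × M))
    (h : chk j0 l (m * j0 * m') = true) : Q g := by
  intro K hK hj
  rw [h1, h2]
  exact of_chk hK l j0 _ hj (by decide +kernel) (by decide +kernel) h

theorem q01 : Q (tr 0 1 (by decide) 1) :=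
  Q_of_chk _ !![1, 1, 0, 0; 0, 1, 0, 0; 0, 0, 1, 0; 0, 0, 0, 1] !![1, 2, 0, 0; 0, 1, 0, 0; 0, 0, 1, 0; 0, 0, 0, 1] (by decide +kernel) (by decide +kernel) _ ok01

theorem q10 : Q (tr 1 0 (by decide) 1) :=
  Q_of_chk _ !![1, 0, 0, 0; 1, 1, 0, 0; 0, 0, 1, 0; 0, 0, 0, 1] !![1, 0, 0, 0; 2, 1, 0, 0; 0, 0, 1, 0; 0, 0, 0, 1] (by decide +kernel) (by decide +kernel) _ ok10

theorem q12 : Q (tr 1 2 (by decide) 1) :=
  Q_of_chk _ !![1, 0, 0, 0; 0, 1, 1, 0; 0, 0, 1, 0; 0, 0, 0, 1] !![1, 0, 0, 0; 0, 1, 2, 0; 0, 0, 1, 0; 0, 0, 0, 1] (by decide +kernel) (by decide +kernel) _ ok12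

theorem q21 : Q (tr 2 1 (by decide) 1) :=
  Q_of_chk _ !![1, 0, 0, 0; 0, 1, 0, 0; 0, 1, 1, 0; 0, 0, 0, 1] !![1, 0, 0, 0; 0, 1, 0, 0; 0, 2, 1, 0; 0, 0, 0, 1] (by decide +kernel) (by decide +kernel) _ ok21

theorem q23 : Q (tr 2 3 (by decide) 1) :=
  Q_of_chk _ !![1, 0, 0, 0; 0, 1, 0, 0; 0, 0, 1, 1; 0, 0, 0, 1] !![1, 0, 0, 0; 0, 1, 0, 0; 0, 0, 1, 2; 0, 0, 0, 1] (by decide +kernel) (by decide +kernel) _ ok23

theorem q32 : Q (tr 3 2 (by decide) 1) :=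
  Q_of_chk _ !![1, 0, 0, 0; 0, 1, 0, 0; 0, 0, 1, 0; 0, 0, 1, 1] !![1, 0, 0, 0; 0, 1, 0, 0; 0, 0, 1, 0; 0, 0, 2, 1] (by decide +kernel) (by decide +kernel) _ ok32

theorem Q_all (g : SL4) : Q g := by
  have : Qs = ⊤ := eq_top_of_adj Qs q01 q10 q12 q21 q23 q32
  have h : g ∈ Qs := by rw [this]; trivial
  exact h

theorem det_j0 : j0.det = 1 := by decide +kernel

theorem full_of_j0 {K : Set M} (hK : PK K) (hj : j0 ∈ K) : Full K := by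
  refine full_of_conj hK (J := mkSL j0 det_j0) ?_ ?_
  · intro h
    rcases (pr_eq_one _).1 h with h | h
    · exact absurd h (by decide +kernel : j0 ≠ 1)
    · exact absurd h (by decide +kernel : j0 ≠ -1)
  · intro g
    rw [mem_Ks, toM_mul, toM_mul, toM_mkSL]
    exact Q_all g K hK hj

/-! ### The first class -/

def d0 : M := !![2, 0, 0, 0; 0, 2, 0, 0; 0, 0, 1, 0; 0, 0, 0, 1]
def I4 : M := !![0, 2, 0, 0; 1, 0, 0, 0; 0, 0, 1, 0; 0, 0, 0, 1]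
def J4 : M := !![1, 1, 0, 0; 1, 2, 0, 0; 0, 0, 1, 0; 0, 0, 0, 1]
def K4 : M := !![2, 1, 0, 0; 1, 1, 0, 0; 0, 0, 1, 0; 0, 0, 0, 1]
def i4 : M := !![1, 0, 0, 0; 0, 1, 0, 0; 0, 0, 0, 2; 0, 0, 1, 0]
def j4 : M := !![1, 0, 0, 0; 0, 1, 0, 0; 0, 0, 1, 1; 0, 0, 1, 2]
def k4 : M := !![1, 0, 0, 0; 0, 1, 0, 0; 0, 0, 2, 1; 0, 0, 1, 1]
def e12 : M := !![1, 1, 0, 0; 0, 1, 0, 0; 0, 0, 1, 0; 0, 0, 0, 1]
def e21 : M := !![1, 0, 0, 0; 1, 1, 0, 0; 0, 0, 1, 0; 0, 0, 0, 1]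
def e34 : M := !![1, 0, 0, 0; 0, 1, 0, 0; 0, 0, 1, 1; 0, 0, 0, 1]
def e31 : M := !![1, 0, 0, 0; 0, 1, 0, 0; 1, 0, 1, 0; 0, 0, 0, 1]
def e32 : M := !![1, 0, 0, 0; 0, 1, 0, 0; 0, 1, 1, 0; 0, 0, 0, 1]
def e14 : M := !![1, 0, 0, 1; 0, 1, 0, 0; 0, 0, 1, 0; 0, 0, 0, 1]
def e24 : M := !![1, 0, 0, 0; 0, 1, 0, 1; 0, 0, 1, 0; 0, 0, 0, 1]

def c2 : Fin 5 → M := ![!![1, 0, 0, 0; 0, 1, 0, 0; 0, 0, 1, 0; 0, 0, 0, 1],
    !![0, 2, 0, 0; 1, 0, 0, 0; 0, 0, 1, 0; 0, 0, 0, 1],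
    !![1, 1, 0, 0; 1, 2, 0, 0; 0, 0, 1, 0; 0, 0, 0, 1],
    !![2, 1, 0, 0; 1, 1, 0, 0; 0, 0, 1, 0; 0, 0, 0, 1],
    !![1, 0, 0, 0; 0, 1, 0, 0; 0, 0, 0, 2; 0, 0, 1, 0]]
def c2i : Fin 5 → M := ![!![1, 0, 0, 0; 0, 1, 0, 0; 0, 0, 1, 0; 0, 0, 0, 1],
    !![0, 1, 0, 0; 2, 0, 0, 0; 0, 0, 1, 0; 0, 0, 0, 1],
    !![2, 2, 0, 0; 2, 1, 0, 0; 0, 0, 1, 0; 0, 0, 0, 1],
    !![1, 2, 0, 0; 2, 2, 0, 0; 0, 0, 1, 0; 0, 0, 0, 1],
    !![1, 0, 0, 0; 0, 1, 0, 0; 0, 0, 0, 1; 0, 0, 2, 0]]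
def P2 : Fin 4 → M := ![!![1, 0, 0, 0; 0, 1, 0, 0; 0, 0, 1, 0; 0, 0, 0, 1],
    !![1, 1, 0, 0; 0, 1, 0, 0; 0, 0, 1, 0; 0, 0, 0, 1],
    !![1, 1, 0, 0; 2, 0, 0, 0; 0, 0, 1, 0; 0, 0, 0, 1],
    !![0, 0, 1, 0; 0, 0, 0, 1; 1, 0, 0, 0; 0, 1, 0, 0]]
def P2i : Fin 4 → M := ![!![1, 0, 0, 0; 0, 1, 0, 0; 0, 0, 1, 0; 0, 0, 0, 1],
    !![1, 2, 0, 0; 0, 1, 0, 0; 0, 0, 1, 0; 0, 0, 0, 1],
    !![0, 2, 0, 0; 1, 1, 0, 0; 0, 0, 1, 0; 0, 0, 0, 1],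
    !![0, 0, 1, 0; 0, 0, 0, 1; 1, 0, 0, 0; 0, 1, 0, 0]]
def cJ : Fin 5 → M := ![!![1, 0, 0, 0; 0, 1, 0, 0; 0, 0, 1, 0; 0, 0, 0, 1],
    !![1, 0, 0, 0; 0, 1, 0, 0; 0, 0, 0, 2; 0, 0, 1, 0],
    !![1, 0, 0, 0; 0, 1, 0, 0; 0, 0, 1, 1; 0, 0, 1, 2],
    !![1, 0, 0, 0; 0, 1, 0, 0; 0, 0, 2, 1; 0, 0, 1, 1],
    !![1, 1, 0, 0; 1, 2, 0, 0; 0, 0, 1, 0; 0, 0, 0, 1]]
def cJi : Fin 5 → M := ![!![1, 0, 0, 0; 0, 1, 0, 0; 0, 0, 1, 0; 0, 0, 0, 1],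
    !![1, 0, 0, 0; 0, 1, 0, 0; 0, 0, 0, 1; 0, 0, 2, 0],
    !![1, 0, 0, 0; 0, 1, 0, 0; 0, 0, 2, 2; 0, 0, 2, 1],
    !![1, 0, 0, 0; 0, 1, 0, 0; 0, 0, 1, 2; 0, 0, 2, 2],
    !![2, 2, 0, 0; 2, 1, 0, 0; 0, 0, 1, 0; 0, 0, 0, 1]]
def c12 : Fin 5 → M := ![!![1, 0, 0, 0; 0, 1, 0, 0; 0, 0, 1, 0; 0, 0, 0, 1],
    !![1, 0, 0, 0; 0, 1, 0, 0; 0, 0, 0, 2; 0, 0, 1, 0],
    !![1, 0, 0, 0; 0, 1, 0, 0; 0, 0, 1, 1; 0, 0, 1, 2],
    !![1, 0, 0, 0; 0, 1, 0, 0; 0, 0, 2, 1; 0, 0, 1, 1],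
    !![1, 1, 0, 0; 0, 1, 0, 0; 0, 0, 1, 0; 0, 0, 0, 1]]
def c12i : Fin 5 → M := ![!![1, 0, 0, 0; 0, 1, 0, 0; 0, 0, 1, 0; 0, 0, 0, 1],
    !![1, 0, 0, 0; 0, 1, 0, 0; 0, 0, 0, 1; 0, 0, 2, 0],
    !![1, 0, 0, 0; 0, 1, 0, 0; 0, 0, 2, 2; 0, 0, 2, 1],
    !![1, 0, 0, 0; 0, 1, 0, 0; 0, 0, 1, 2; 0, 0, 2, 2],
    !![1, 2, 0, 0; 0, 1, 0, 0; 0, 0, 1, 0; 0, 0, 0, 1]]
def c21 : Fin 5 → M := ![!![1, 0, 0, 0; 0, 1, 0, 0; 0, 0, 1, 0; 0, 0, 0, 1],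
    !![1, 0, 0, 0; 0, 1, 0, 0; 0, 0, 0, 2; 0, 0, 1, 0],
    !![1, 0, 0, 0; 0, 1, 0, 0; 0, 0, 1, 1; 0, 0, 1, 2],
    !![1, 0, 0, 0; 0, 1, 0, 0; 0, 0, 2, 1; 0, 0, 1, 1],
    !![1, 0, 0, 0; 1, 1, 0, 0; 0, 0, 1, 0; 0, 0, 0, 1]]
def c21i : Fin 5 → M := ![!![1, 0, 0, 0; 0, 1, 0, 0; 0, 0, 1, 0; 0, 0, 0, 1],
    !![1, 0, 0, 0; 0, 1, 0, 0; 0, 0, 0, 1; 0, 0, 2, 0],
    !![1, 0, 0, 0; 0, 1, 0, 0; 0, 0, 2, 2; 0, 0, 2, 1],
    !![1, 0, 0, 0; 0, 1, 0, 0; 0, 0, 1, 2; 0, 0, 2, 2],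
    !![1, 0, 0, 0; 2, 1, 0, 0; 0, 0, 1, 0; 0, 0, 0, 1]]
def c34 : Fin 5 → M := ![!![1, 0, 0, 0; 0, 1, 0, 0; 0, 0, 1, 0; 0, 0, 0, 1],
    !![1, 0, 0, 0; 0, 1, 0, 0; 0, 0, 0, 2; 0, 0, 1, 0],
    !![1, 0, 0, 0; 0, 1, 0, 0; 0, 0, 1, 1; 0, 0, 1, 2],
    !![1, 0, 0, 0; 0, 1, 0, 0; 0, 0, 2, 1; 0, 0, 1, 1],
    !![1, 0, 0, 0; 0, 1, 0, 0; 0, 0, 1, 1; 0, 0, 0, 1]]
def c34i : Fin 5 → M := ![!![1, 0, 0, 0; 0, 1, 0, 0; 0, 0, 1, 0; 0, 0, 0, 1],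
    !![1, 0, 0, 0; 0, 1, 0, 0; 0, 0, 0, 1; 0, 0, 2, 0],
    !![1, 0, 0, 0; 0, 1, 0, 0; 0, 0, 2, 2; 0, 0, 2, 1],
    !![1, 0, 0, 0; 0, 1, 0, 0; 0, 0, 1, 2; 0, 0, 2, 2],
    !![1, 0, 0, 0; 0, 1, 0, 0; 0, 0, 1, 2; 0, 0, 0, 1]]
def P4 : Fin 4 → M := ![!![1, 0, 0, 0; 0, 1, 0, 0; 0, 0, 1, 0; 0, 0, 0, 1],
    !![1, 0, 0, 0; 0, 1, 0, 0; 0, 0, 0, 2; 0, 0, 1, 0],
    !![1, 0, 0, 0; 0, 1, 0, 0; 0, 0, 1, 1; 0, 0, 1, 2],
    !![1, 0, 0, 0; 0, 1, 0, 0; 0, 0, 2, 1; 0, 0, 1, 1]]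
def P4i : Fin 4 → M := ![!![1, 0, 0, 0; 0, 1, 0, 0; 0, 0, 1, 0; 0, 0, 0, 1],
    !![1, 0, 0, 0; 0, 1, 0, 0; 0, 0, 0, 1; 0, 0, 2, 0],
    !![1, 0, 0, 0; 0, 1, 0, 0; 0, 0, 2, 2; 0, 0, 2, 1],
    !![1, 0, 0, 0; 0, 1, 0, 0; 0, 0, 1, 2; 0, 0, 2, 2]]
def q8 : Fin 8 → M := ![!![1, 0, 0, 0; 0, 1, 0, 0; 0, 0, 1, 0; 0, 0, 0, 1],
    !![0, 2, 0, 0; 1, 0, 0, 0; 0, 0, 1, 0; 0, 0, 0, 1],
    !![1, 1, 0, 0; 1, 2, 0, 0; 0, 0, 1, 0; 0, 0, 0, 1],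
    !![2, 1, 0, 0; 1, 1, 0, 0; 0, 0, 1, 0; 0, 0, 0, 1],
    !![2, 0, 0, 0; 0, 2, 0, 0; 0, 0, 1, 0; 0, 0, 0, 1],
    !![0, 1, 0, 0; 2, 0, 0, 0; 0, 0, 1, 0; 0, 0, 0, 1],
    !![2, 2, 0, 0; 2, 1, 0, 0; 0, 0, 1, 0; 0, 0, 0, 1],
    !![1, 2, 0, 0; 2, 2, 0, 0; 0, 0, 1, 0; 0, 0, 0, 1]]
def q8i : Fin 8 → M := ![!![1, 0, 0, 0; 0, 1, 0, 0; 0, 0, 1, 0; 0, 0, 0, 1],
    !![0, 1, 0, 0; 2, 0, 0, 0; 0, 0, 1, 0; 0, 0, 0, 1],
    !![2, 2, 0, 0; 2, 1, 0, 0; 0, 0, 1, 0; 0, 0, 0, 1],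
    !![1, 2, 0, 0; 2, 2, 0, 0; 0, 0, 1, 0; 0, 0, 0, 1],
    !![2, 0, 0, 0; 0, 2, 0, 0; 0, 0, 1, 0; 0, 0, 0, 1],
    !![0, 2, 0, 0; 1, 0, 0, 0; 0, 0, 1, 0; 0, 0, 0, 1],
    !![1, 1, 0, 0; 1, 2, 0, 0; 0, 0, 1, 0; 0, 0, 0, 1],
    !![2, 1, 0, 0; 1, 1, 0, 0; 0, 0, 1, 0; 0, 0, 0, 1]]
def cA : Fin 5 → M := ![!![1, 0, 0, 0; 0, 1, 0, 0; 0, 0, 1, 0; 0, 0, 0, 1],
    !![1, 0, 0, 0; 0, 1, 0, 0; 1, 0, 1, 0; 0, 0, 0, 1],
    !![1, 0, 0, 0; 0, 1, 0, 0; 2, 0, 1, 0; 0, 0, 0, 1],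
    !![1, 0, 0, 0; 0, 1, 0, 0; 0, 1, 1, 0; 0, 0, 0, 1],
    !![1, 0, 0, 0; 0, 1, 0, 0; 1, 1, 1, 0; 0, 0, 0, 1]]
def cAi : Fin 5 → M := ![!![1, 0, 0, 0; 0, 1, 0, 0; 0, 0, 1, 0; 0, 0, 0, 1],
    !![1, 0, 0, 0; 0, 1, 0, 0; 2, 0, 1, 0; 0, 0, 0, 1],
    !![1, 0, 0, 0; 0, 1, 0, 0; 1, 0, 1, 0; 0, 0, 0, 1],
    !![1, 0, 0, 0; 0, 1, 0, 0; 0, 2, 1, 0; 0, 0, 0, 1],
    !![1, 0, 0, 0; 0, 1, 0, 0; 2, 2, 1, 0; 0, 0, 0, 1]]
def cB : Fin 5 → M := ![!![1, 0, 0, 0; 0, 1, 0, 0; 0, 0, 1, 0; 0, 0, 0, 1],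
    !![1, 0, 0, 1; 0, 1, 0, 0; 0, 0, 1, 0; 0, 0, 0, 1],
    !![1, 0, 0, 2; 0, 1, 0, 0; 0, 0, 1, 0; 0, 0, 0, 1],
    !![1, 0, 0, 0; 0, 1, 0, 1; 0, 0, 1, 0; 0, 0, 0, 1],
    !![1, 0, 0, 1; 0, 1, 0, 1; 0, 0, 1, 0; 0, 0, 0, 1]]
def cBi : Fin 5 → M := ![!![1, 0, 0, 0; 0, 1, 0, 0; 0, 0, 1, 0; 0, 0, 0, 1],
    !![1, 0, 0, 2; 0, 1, 0, 0; 0, 0, 1, 0; 0, 0, 0, 1],
    !![1, 0, 0, 1; 0, 1, 0, 0; 0, 0, 1, 0; 0, 0, 0, 1],
    !![1, 0, 0, 0; 0, 1, 0, 2; 0, 0, 1, 0; 0, 0, 0, 1],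
    !![1, 0, 0, 2; 0, 1, 0, 2; 0, 0, 1, 0; 0, 0, 0, 1]]

/-- not in `K` if `K` contains no matrix with square `-1` but `I4` -/
def Bad (m : M) : Prop := m * m = -1 ∨ (I4 * m) * (I4 * m) = -1 ∨ (I4 * (m * m * m)) * (I4 * (m * m * m)) = -1

instance decBad (m : M) : Decidable (Bad m) := by unfold Bad; infer_instance

theorem not_bad {K : Set M} (hK : PK K) (nb : ∀ m ∈ K, m * m ≠ -1) (hI : I4 ∈ K) {m : M} (hm : m ∈ K) : ¬ Bad m := by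
  rintro (h | h | h)
  · exact nb _ hm h
  · exact nb _ (hK.mul hI hm) h
  · exact nb _ (hK.mul hI (hK.mul (hK.mul hm hm) hm)) h

theorem d0_ne : d0 ≠ 1 ∧ d0 ≠ -1 := by decide +kernel

theorem sgn {K : Set M} (hK : PK K) (hd : d0 ∈ K) {m p : M} (hm : m ∈ K)
    (h : p = m ∨ p = m * d0 ∨ p = -m ∨ p = -(m * d0)) : p ∈ K := by
  have hn : ∀ {a : M}, a ∈ K → -a ∈ K := by
    intro a ha
    have := hK.mul hK.neg ha
    rwa [neg_one_mul] at this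
  rcases h with rfl | rfl | rfl | rfl
  · exact hm
  · exact hK.mul hm hd
  · exact hn hm
  · exact hn (hK.mul hm hd)

/-- step 2: up to conjugation `I4 ∈ K` -/
theorem step2 {K : Set M} (hK : PK K) (nb : ∀ m ∈ K, m * m ≠ -1) (hd : d0 ∈ K) :
    ∃ l : Fin 4, I4 ∈ cjM (P2 l) (P2i l) K ∧ d0 ∈ cjM (P2 l) (P2i l) K := by
  obtain ⟨i, j, hij, hm⟩ := hK.pig d0 hd d0_ne.1 d0_ne.2 c2 c2i (by decide +kernel) (by decide +kernel) (by decide +kernel)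
  have key : ∀ i j : Fin 5, i < j → (c2i i * c2 j) * (c2i i * c2 j) = -1 ∨ ∃ l : Fin 4,
      P2 l * I4 * P2i l = c2i i * c2 j ∨ P2 l * I4 * P2i l = c2i i * c2 j * d0 ∨ P2 l * I4 * P2i l = -(c2i i * c2 j) ∨
      P2 l * I4 * P2i l = -(c2i i * c2 j * d0) := by decide +kernel
  have key2 : ∀ l : Fin 4, P2 l * d0 * P2i l = d0 ∨ P2 l * d0 * P2i l = -d0 := by decide +kernel
  rcases key i j hij with h | ⟨l, h⟩
  · exact absurd h (nb _ hm)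
  · refine ⟨l, ?_, ?_⟩
    · rw [mem_cjM]; exact sgn hK hd hm h
    · rw [mem_cjM]
      rcases key2 l with h2 | h2
      · rw [h2]; exact hd
      · exact sgn hK hd hd (Or.inr (Or.inr (Or.inl h2)))

theorem stepJ {K : Set M} (hK : PK K) (nb : ∀ m ∈ K, m * m ≠ -1) (hd : d0 ∈ K) (hI : I4 ∈ K) : J4 ∈ K := by
  obtain ⟨i, j, hij, hm⟩ := hK.pig d0 hd d0_ne.1 d0_ne.2 cJ cJi (by decide +kernel) (by decide +kernel) (by decide +kernel)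
  have key : ∀ i j : Fin 5, i < j → Bad (cJi i * cJ j) ∨ cJi i * cJ j = J4 := by decide +kernel
  rcases key i j hij with h | h
  · exact absurd h (not_bad hK nb hI hm)
  · rwa [h] at hm

theorem step12 {K : Set M} (hK : PK K) (nb : ∀ m ∈ K, m * m ≠ -1) (hd : d0 ∈ K) (hI : I4 ∈ K) : e12 ∈ K := by
  obtain ⟨i, j, hij, hm⟩ := hK.pig d0 hd d0_ne.1 d0_ne.2 c12 c12i (by decide +kernel) (by decide +kernel) (by decide +kernel)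
  have key : ∀ i j : Fin 5, i < j → Bad (c12i i * c12 j) ∨ c12i i * c12 j = e12 := by decide +kernel
  rcases key i j hij with h | h
  · exact absurd h (not_bad hK nb hI hm)
  · rwa [h] at hm

theorem step21 {K : Set M} (hK : PK K) (nb : ∀ m ∈ K, m * m ≠ -1) (hd : d0 ∈ K) (hI : I4 ∈ K) : e21 ∈ K := by
  obtain ⟨i, j, hij, hm⟩ := hK.pig d0 hd d0_ne.1 d0_ne.2 c21 c21i (by decide +kernel) (by decide +kernel) (by decide +kernel)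
  have key : ∀ i j : Fin 5, i < j → Bad (c21i i * c21 j) ∨ c21i i * c21 j = e21 := by decide +kernel
  rcases key i j hij with h | h
  · exact absurd h (not_bad hK nb hI hm)
  · rwa [h] at hm

theorem step34 {K : Set M} (hK : PK K) (nb : ∀ m ∈ K, m * m ≠ -1) (hd : d0 ∈ K) (hI : I4 ∈ K) :
    ∃ l : Fin 4, e34 ∈ cjM (P4 l) (P4i l) K := by
  obtain ⟨i, j, hij, hm⟩ := hK.pig d0 hd d0_ne.1 d0_ne.2 c34 c34i (by decide +kernel) (by decide +kernel) (by decide +kernel)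
  have key : ∀ i j : Fin 5, i < j → Bad (c34i i * c34 j) ∨ ∃ l : Fin 4,
      P4 l * e34 * P4i l = c34i i * c34 j ∨ P4 l * e34 * P4i l = c34i i * c34 j * d0 ∨
      P4 l * e34 * P4i l = -(c34i i * c34 j) ∨ P4 l * e34 * P4i l = -(c34i i * c34 j * d0) := by decide +kernel
  rcases key i j hij with h | ⟨l, h⟩
  · exact absurd h (not_bad hK nb hI hm)
  · exact ⟨l, sgn hK hd hm h⟩

theorem q8_mem {K : Set M} (hK : PK K) (hd : d0 ∈ K) (hI : I4 ∈ K) (hJ : J4 ∈ K) : ∀ l, q8 l ∈ K := by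
  have h0 : q8 0 = 1 := by decide +kernel
  have h1 : q8 1 = I4 := by decide +kernel
  have h2 : q8 2 = J4 := by decide +kernel
  have h3 : q8 3 = I4 * J4 := by decide +kernel
  have h4 : q8 4 = d0 := by decide +kernel
  have h5 : q8 5 = d0 * I4 := by decide +kernel
  have h6 : q8 6 = d0 * J4 := by decide +kernel
  have h7 : q8 7 = d0 * (I4 * J4) := by decide +kernel
  intro l
  fin_cases l
  · change q8 0 ∈ K; rw [h0]; exact hK.one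
  · change q8 1 ∈ K; rw [h1]; exact hI
  · change q8 2 ∈ K; rw [h2]; exact hJ
  · change q8 3 ∈ K; rw [h3]; exact hK.mul hI hJ
  · change q8 4 ∈ K; rw [h4]; exact hd
  · change q8 5 ∈ K; rw [h5]; exact hK.mul hd hI
  · change q8 6 ∈ K; rw [h6]; exact hK.mul hd hJ
  · change q8 7 ∈ K; rw [h7]; exact hK.mul hd (hK.mul hI hJ)

theorem e34_ne : e34 ≠ 1 ∧ e34 ≠ -1 := by decide +kernel

theorem stepA {K : Set M} (hK : PK K) (hd : d0 ∈ K) (hI : I4 ∈ K) (hJ : J4 ∈ K) (h34 : e34 ∈ K) : e31 ∈ K ∧ e32 ∈ K := by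
  obtain ⟨i, j, hij, hm⟩ := hK.pig e34 h34 e34_ne.1 e34_ne.2 cA cAi (by decide +kernel) (by decide +kernel) (by decide +kernel)
  have key : ∀ i j : Fin 5, i < j → (∃ l : Fin 8, q8 l * (cAi i * cA j) * q8i l = e31) ∧
      (∃ l : Fin 8, q8 l * (cAi i * cA j) * q8i l = e32) := by decide +kernel
  have hq := q8_mem hK hd hI hJ
  have hqi : ∀ l, q8 l * q8i l = 1 := by decide +kernel
  obtain ⟨⟨l, h1⟩, ⟨l', h2⟩⟩ := key i j hij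
  constructor
  · rw [← h1]; exact hK.mul (hK.mul (hq l) hm) (hK.inv (hq l) (hqi l))
  · rw [← h2]; exact hK.mul (hK.mul (hq l') hm) (hK.inv (hq l') (hqi l'))

theorem stepB {K : Set M} (hK : PK K) (hd : d0 ∈ K) (hI : I4 ∈ K) (hJ : J4 ∈ K) (h34 : e34 ∈ K) : e14 ∈ K ∧ e24 ∈ K := by
  obtain ⟨i, j, hij, hm⟩ := hK.pig e34 h34 e34_ne.1 e34_ne.2 cB cBi (by decide +kernel) (by decide +kernel) (by decide +kernel)
  have key : ∀ i j : Fin 5, i < j → (∃ l : Fin 8, q8 l * (cBi i * cB j) * q8i l = e14) ∧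
      (∃ l : Fin 8, q8 l * (cBi i * cB j) * q8i l = e24) := by decide +kernel
  have hq := q8_mem hK hd hI hJ
  have hqi : ∀ l, q8 l * q8i l = 1 := by decide +kernel
  obtain ⟨⟨l, h1⟩, ⟨l', h2⟩⟩ := key i j hij
  constructor
  · rw [← h1]; exact hK.mul (hK.mul (hq l) hm) (hK.inv (hq l) (hqi l))
  · rw [← h2]; exact hK.mul (hK.mul (hq l') hm) (hK.inv (hq l') (hqi l'))

theorem pow13 {z z2 z4 : M} (h2 : z * z = z2) (h4 : z2 * z2 = z4) (h : z4 * z4 * z4 * z = 1) : z ^ 13 = 1 := by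
  rw [← h4, ← h2] at h
  rw [← h]
  noncomm_ring

def e41 : M := !![1, 0, 0, 0; 0, 1, 0, 0; 0, 0, 1, 0; 1, 0, 0, 1]
def e13 : M := !![1, 0, 1, 0; 0, 1, 0, 0; 0, 0, 1, 0; 0, 0, 0, 1]
def e23 : M := !![1, 0, 0, 0; 0, 1, 1, 0; 0, 0, 1, 0; 0, 0, 0, 1]
def e43 : M := !![1, 0, 0, 0; 0, 1, 0, 0; 0, 0, 1, 0; 0, 0, 1, 1]

theorem step41 {K : Set M} (hK : PK K) (h : ∀ i, (![e31, e32, e34] : Fin 3 → M) i ∈ K) : e41 ∈ K := by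
  have hz : (!![0, 0, 0, 1; 0, 1, 0, 1; 0, 0, 1, 0; 2, 1, 0, 2] : M) ∈ K := by
    refine hK.thirteen ![e31, e32, e34] h (by decide +kernel) (by decide +kernel) _ !![1, 1, 0, 2; 2, 1, 0, 0; 0, 0, 1, 0; 1, 0, 0, 0]
      (by decide +kernel) (pow13 (z2 := !![2, 1, 0, 2; 2, 2, 0, 0; 0, 0, 1, 0; 1, 0, 0, 1]) (z4 := !![2, 1, 0, 0; 2, 0, 0, 1; 0, 0, 1, 0; 0, 1, 0, 0])
        (by decide +kernel) (by decide +kernel) (by decide +kernel)) (by decide +kernel)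
  have hw : (!![0, 1, 0, 2; 2, 1, 0, 0; 0, 0, 1, 0; 1, 0, 0, 0] : M) ∈ K := by
    refine hK.thirteen ![e31, e32, e34] h (by decide +kernel) (by decide +kernel) _ !![0, 0, 0, 1; 0, 1, 0, 1; 0, 0, 1, 0; 2, 1, 0, 1]
      (by decide +kernel) (pow13 (z2 := !![1, 1, 0, 0; 2, 0, 0, 1; 0, 0, 1, 0; 0, 1, 0, 2]) (z4 := !![0, 1, 0, 1; 2, 0, 0, 2; 0, 0, 1, 0; 2, 2, 0, 2])
        (by decide +kernel) (by decide +kernel) (by decide +kernel)) (by decide +kernel)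
  have := hK.mul hz hw
  have e : (!![0, 0, 0, 1; 0, 1, 0, 1; 0, 0, 1, 0; 2, 1, 0, 2] : M) * !![0, 1, 0, 2; 2, 1, 0, 0; 0, 0, 1, 0; 1, 0, 0, 0] = e41 := by decide +kernel
  rwa [e] at this

theorem step13 {K : Set M} (hK : PK K) (h : ∀ i, (![e14, e24, e34] : Fin 3 → M) i ∈ K) : e13 ∈ K := by
  have hz : (!![0, 0, 1, 0; 0, 1, 1, 0; 2, 1, 1, 0; 0, 0, 0, 1] : M) ∈ K := by
    refine hK.thirteen ![e14, e24, e34] h (by decide +kernel) (by decide +kernel) _ !![0, 1, 2, 0; 2, 1, 0, 0; 1, 0, 0, 0; 0, 0, 0, 1]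
      (by decide +kernel) (pow13 (z2 := !![2, 1, 1, 0; 2, 2, 2, 0; 2, 2, 1, 0; 0, 0, 0, 1]) (z4 := !![2, 0, 2, 0; 0, 1, 2, 0; 1, 2, 1, 0; 0, 0, 0, 1])
        (by decide +kernel) (by decide +kernel) (by decide +kernel)) (by decide +kernel)
  have hw : (!![0, 1, 2, 0; 2, 1, 2, 0; 1, 0, 1, 0; 0, 0, 0, 1] : M) ∈ K := by
    refine hK.thirteen ![e14, e24, e34] h (by decide +kernel) (by decide +kernel) _ !![1, 2, 0, 0; 0, 1, 1, 0; 2, 1, 1, 0; 0, 0, 0, 1]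
      (by decide +kernel) (pow13 (z2 := !![1, 1, 1, 0; 1, 0, 2, 0; 1, 1, 0, 0; 0, 0, 0, 1]) (z4 := !![0, 2, 0, 0; 0, 0, 1, 0; 2, 1, 0, 0; 0, 0, 0, 1])
        (by decide +kernel) (by decide +kernel) (by decide +kernel)) (by decide +kernel)
  have := hK.mul hz hw
  have e : (!![0, 0, 1, 0; 0, 1, 1, 0; 2, 1, 1, 0; 0, 0, 0, 1] : M) * !![0, 1, 2, 0; 2, 1, 2, 0; 1, 0, 1, 0; 0, 0, 0, 1] = e13 := by decide +kernel
  rwa [e] at this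

theorem step23 {K : Set M} (hK : PK K) (h : ∀ i, (![e14, e24, e34] : Fin 3 → M) i ∈ K) : e23 ∈ K := by
  have hz : (!![0, 0, 1, 0; 0, 1, 2, 0; 2, 1, 0, 0; 0, 0, 0, 1] : M) ∈ K := by
    refine hK.thirteen ![e14, e24, e34] h (by decide +kernel) (by decide +kernel) _ !![1, 1, 2, 0; 1, 1, 0, 0; 1, 0, 0, 0; 0, 0, 0, 1]
      (by decide +kernel) (pow13 (z2 := !![2, 1, 0, 0; 1, 0, 2, 0; 0, 1, 1, 0; 0, 0, 0, 1]) (z4 := !![2, 2, 2, 0; 2, 0, 2, 0; 1, 1, 0, 0; 0, 0, 0, 1])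
        (by decide +kernel) (by decide +kernel) (by decide +kernel)) (by decide +kernel)
  have hw : (!![1, 1, 0, 0; 1, 1, 1, 0; 1, 0, 0, 0; 0, 0, 0, 1] : M) ∈ K := by
    refine hK.thirteen ![e14, e24, e34] h (by decide +kernel) (by decide +kernel) _ !![0, 0, 1, 0; 1, 0, 2, 0; 2, 1, 0, 0; 0, 0, 0, 1]
      (by decide +kernel) (pow13 (z2 := !![2, 2, 1, 0; 0, 2, 1, 0; 1, 1, 0, 0; 0, 0, 0, 1]) (z4 := !![2, 0, 1, 0; 1, 2, 2, 0; 2, 1, 2, 0; 0, 0, 0, 1])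
        (by decide +kernel) (by decide +kernel) (by decide +kernel)) (by decide +kernel)
  have := hK.mul hz hw
  have e : (!![0, 0, 1, 0; 0, 1, 2, 0; 2, 1, 0, 0; 0, 0, 0, 1] : M) * !![1, 1, 0, 0; 1, 1, 1, 0; 1, 0, 0, 0; 0, 0, 0, 1] = e23 := by decide +kernel
  rwa [e] at this

theorem full_of_34 {K : Set M} (hK : PK K) (nb : ∀ m ∈ K, m * m ≠ -1) (hd : d0 ∈ K) (hI : I4 ∈ K) (h34 : e34 ∈ K) :
    Full K := by
  have hJ := stepJ hK nb hd hI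
  obtain ⟨h31, h32⟩ := stepA hK hd hI hJ h34
  obtain ⟨h14, h24⟩ := stepB hK hd hI hJ h34
  have hc : ∀ i, (![e31, e32, e34] : Fin 3 → M) i ∈ K := by
    intro i; fin_cases i
    · exact h31
    · exact h32
    · exact h34
  have hw : ∀ i, (![e14, e24, e34] : Fin 3 → M) i ∈ K := by
    intro i; fin_cases i
    · exact h14
    · exact h24
    · exact h34
  have h41 := step41 hK hc
  have h13 := step13 hK hw
  have h23 := step23 hK hw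
  have h43 : e43 ∈ K := by
    have e : e41 * e13 * (!![1, 0, 0, 0; 0, 1, 0, 0; 0, 0, 1, 0; 2, 0, 0, 1] * !![1, 0, 2, 0; 0, 1, 0, 0; 0, 0, 1, 0; 0, 0, 0, 1]) = e43 := by decide +kernel
    rw [← e]
    refine hK.mul (hK.mul h41 h13) (hK.mul (hK.inv h41 ?_) (hK.inv h13 ?_))
    · decide +kernel
    · decide +kernel
  apply full_of_top hK
  apply eq_top_of_adj
  · rw [mem_Ks]
    have e : toM (tr 0 1 (by decide) 1) = e12 := by decide +kernel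
    rw [e]; exact step12 hK nb hd hI
  · rw [mem_Ks]
    have e : toM (tr 1 0 (by decide) 1) = e21 := by decide +kernel
    rw [e]; exact step21 hK nb hd hI
  · rw [mem_Ks]
    have e : toM (tr 1 2 (by decide) 1) = e23 := by decide +kernel
    rw [e]; exact h23
  · rw [mem_Ks]
    have e : toM (tr 2 1 (by decide) 1) = e32 := by decide +kernel
    rw [e]; exact h32
  · rw [mem_Ks]
    have e : toM (tr 2 3 (by decide) 1) = e34 := by decide +kernel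
    rw [e]; exact h34
  · rw [mem_Ks]
    have e : toM (tr 3 2 (by decide) 1) = e43 := by decide +kernel
    rw [e]; exact h43

/-- no matrix of square `-1` after conjugation -/
theorem nb_cj {K : Set M} (nb : ∀ m ∈ K, m * m ≠ -1) {P P' : M} (h : P * P' = 1) : ∀ m ∈ cjM P P' K, m * m ≠ -1 := by
  intro m hm h1
  rw [mem_cjM] at hm
  refine nb _ hm ?_
  have h' : P' * P = 1 := mul_eq_one_comm.1 h
  rw [← cj_mul h', h1, mul_neg, mul_one, neg_mul, h]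

theorem full_of_d0 {K : Set M} (hK : PK K) (nb : ∀ m ∈ K, m * m ≠ -1) (hd : d0 ∈ K) : Full K := by
  obtain ⟨l, hI, hd'⟩ := step2 hK nb hd
  have hP0 : ∀ l, P2 l * P2i l = 1 := by decide +kernel
  have hP := hP0 l
  refine Full.of_conj hP ?_
  have hK' := hK.conj hP
  have nb' := nb_cj nb hP
  obtain ⟨k, h34⟩ := step34 hK' nb' hd' hI
  have hP4 : ∀ k, P4 k * P4i k = 1 := by decide +kernel
  refine Full.of_conj (hP4 k) ?_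
  refine full_of_34 (hK'.conj (hP4 k)) (nb_cj nb' (hP4 k)) ?_ ?_ h34
  · rw [mem_cjM]
    have e : ∀ k, P4 k * d0 * P4i k = d0 := by decide +kernel
    rw [e]; exact hd'
  · rw [mem_cjM]
    have e : ∀ k, P4 k * I4 * P4i k = I4 := by decide +kernel
    rw [e]; exact hI

end Cfsg.Agent.H546.Fx.Psl
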